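import Groth.Agent.Lib.DVRDom.Scheme
import Groth.Agent.Lib.InvExt.Extend
import Groth.Agent.Lib.RedSub.Basic
import Mathlib.AlgebraicGeometry.Restrict

/-!
Tools for extending rational maps: gluing two opens, integral neighbourhoods, discrete valuation
rings realizing a specialization.
-/

universe u

open CategoryTheory CategoryTheory.Limits AlgebraicGeometry TopologicalSpace IsLocalRing

namespace GrothLib.Rat20Ext

variable {X Y : Scheme.{u}}

/-- Morphisms on two opens agreeing on the intersection glue. -/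
theorem exists_glue_sup (U V : X.Opens) (a : (U : Scheme.{u}) ⟶ Y) (b : (V : Scheme.{u}) ⟶ Y)
    (hab : X.homOfLE (inf_le_left : U ⊓ V ≤ U) ≫ a = X.homOfLE (inf_le_right : U ⊓ V ≤ V) ≫ b) :
    ∃ c : (↑(U ⊔ V) : Scheme.{u}) ⟶ Y, X.homOfLE le_sup_left ≫ c = a ∧ X.homOfLE le_sup_right ≫ c = b := by
  let W : Bool → X.Opens := fun i => bif i then U else V
  have hle : ∀ i, W i ≤ U ⊔ V := fun i => by cases i <;> simp [W]
  let 𝒰 : (↑(U ⊔ V) : Scheme.{u}).OpenCover :=
    { I₀ := ULift.{u} Bool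
      X := fun i => W i.down
      f := fun i => X.homOfLE (hle i.down)
      mem₀ := by
        rw [Scheme.presieve₀_mem_precoverage_iff]
        refine ⟨fun x => ?_, inferInstance⟩
        rcases x.2 with hx | hx
        · exact ⟨⟨true⟩, ⟨x.1, hx⟩, Subtype.ext (by simp)⟩
        · exact ⟨⟨false⟩, ⟨x.1, hx⟩, Subtype.ext (by simp)⟩ }
  let m : ∀ i : ULift.{u} Bool, (W i.down : Scheme.{u}) ⟶ Y := fun i => match i with
    | ⟨true⟩ => a
    | ⟨false⟩ => b
  have hm : ∀ i j, pullback.fst (𝒰.f i) (𝒰.f j) ≫ m i = pullback.snd (𝒰.f i) (𝒰.f j) ≫ m j := by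
    intro i j
    refine (cancel_epi (isPullback_opens_inf_le (hle i.down) (hle j.down)).isoPullback.hom).mp ?_
    simp only [𝒰, IsPullback.isoPullback_hom_fst_assoc, IsPullback.isoPullback_hom_snd_assoc]
    obtain ⟨i⟩ := i
    obtain ⟨j⟩ := j
    cases i <;> cases j
    · rfl
    · show X.homOfLE (inf_le_left : V ⊓ U ≤ V) ≫ b = X.homOfLE (inf_le_right : V ⊓ U ≤ U) ≫ a
      have h2 := congrArg (X.homOfLE (le_inf inf_le_right inf_le_left : V ⊓ U ≤ U ⊓ V) ≫ ·) hab
      simp only [Scheme.homOfLE_homOfLE_assoc] at h2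
      exact h2.symm
    · exact hab
    · rfl
  exact ⟨𝒰.glueMorphisms m hm, 𝒰.ι_glueMorphisms m hm ⟨true⟩, 𝒰.ι_glueMorphisms m hm ⟨false⟩⟩

theorem exists_integral_nhd [IsLocallyNoetherian X] (x : X) [IsDomain (X.presheaf.stalk x)] :
    ∃ W : X.Opens, x ∈ W ∧ IsIntegral (W : Scheme.{u}) := by
  obtain ⟨R, _, _, φ, _, z, hz⟩ := GrothLib.InvExt.exists_integral_affine_nhd x
  haveI : Nonempty φ.opensRange.toScheme := ⟨φ.isoOpensRange.hom z⟩
  exact ⟨φ.opensRange, ⟨z, hz⟩, isIntegral_of_isOpenImmersion φ.isoOpensRange.inv⟩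

theorem hom_ext_sup (U V : X.Opens) {c d : (↑(U ⊔ V) : Scheme.{u}) ⟶ Y}
    (hU : X.homOfLE (le_sup_left : U ≤ U ⊔ V) ≫ c = X.homOfLE le_sup_left ≫ d)
    (hV : X.homOfLE (le_sup_right : V ≤ U ⊔ V) ≫ c = X.homOfLE le_sup_right ≫ d) : c = d := by
  let 𝒰 : ULift.{u} Bool → (↑(U ⊔ V) : Scheme.{u}).Opens :=
    fun i => (U ⊔ V).ι ⁻¹ᵁ (bif i.down then U else V)
  refine Scheme.Cover.hom_ext ((↑(U ⊔ V) : Scheme.{u}).openCoverOfIsOpenCover 𝒰
    (TopologicalSpace.IsOpenCover.mk (eq_top_iff.2 fun t _ => TopologicalSpace.Opens.mem_iSup.2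
      (t.2.elim (fun ht => ⟨⟨true⟩, ht⟩) (fun ht => ⟨⟨false⟩, ht⟩))))) _ _ ?_
  rintro ⟨i⟩
  show (𝒰 ⟨i⟩).ι ≫ c = (𝒰 ⟨i⟩).ι ≫ d
  cases i
  · have e1 : (𝒰 ⟨false⟩).ι = ((U ⊔ V).ι ∣_ V) ≫ X.homOfLE le_sup_right := by
      rw [← cancel_mono (U ⊔ V).ι, Category.assoc, Scheme.homOfLE_ι, morphismRestrict_ι]
      rfl
    rw [e1, Category.assoc, Category.assoc, hV]
  · have e1 : (𝒰 ⟨true⟩).ι = ((U ⊔ V).ι ∣_ U) ≫ X.homOfLE le_sup_left := by
      rw [← cancel_mono (U ⊔ V).ι, Category.assoc, Scheme.homOfLE_ι, morphismRestrict_ι]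
      rfl
    rw [e1, Category.assoc, Category.assoc, hU]

/-- Variant of `exists_dvr_map` for the image of a point under a morphism locally of finite type. -/
theorem exists_dvr_map' [IsLocallyNoetherian X] {E : Scheme.{u}} (p : E ⟶ X) [LocallyOfFiniteType p]
    (η : E) (x : X) (hsp : p η ⤳ x) (hne : x ≠ p η) :
    ∃ (R : Type u) (_ : CommRing R) (_ : IsDomain R) (_ : IsDiscreteValuationRing R)
      (u : Spec (CommRingCat.of R) ⟶ X)
      (z : Spec (CommRingCat.of (FractionRing R)) ⟶ Spec (E.residueField η)),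
      u (closedPoint R) = x ∧
        Spec.map (CommRingCat.ofHom (algebraMap R (FractionRing R))) ≫ u =
          z ≫ E.fromSpecResidueField η ≫ p := by
  obtain ⟨A, u, hA, hu, hA'⟩ := GrothLib.DVRDom.exists_dvr_over p η x hsp hne
  obtain ⟨z, hz, -⟩ := GrothLib.DVRDom.restrict_fractionRing_eq A u u rfl
  rw [hA'] at hz
  exact ⟨A, inferInstance, inferInstance, hA, u, z, hu, hz⟩

/-- A specialization in a locally Noetherian scheme is realized by a discrete valuation ring. -/
theorem exists_dvr_map [IsLocallyNoetherian X] (ξ x : X) (hsp : ξ ⤳ x) (hne : x ≠ ξ) :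
    ∃ (R : Type u) (_ : CommRing R) (_ : IsDomain R) (_ : IsDiscreteValuationRing R)
      (u : Spec (CommRingCat.of R) ⟶ X)
      (z : Spec (CommRingCat.of (FractionRing R)) ⟶ Spec (X.residueField ξ)),
      u (closedPoint R) = x ∧
        Spec.map (CommRingCat.ofHom (algebraMap R (FractionRing R))) ≫ u = z ≫ X.fromSpecResidueField ξ := by
  obtain ⟨A, u, hA, hu, hA'⟩ := GrothLib.DVRDom.exists_dvr_over (𝟙 X) ξ x (by simpa using hsp)
    (by simpa using hne)
  obtain ⟨z, hz, -⟩ := GrothLib.DVRDom.restrict_fractionRing_eq A u u rfl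
  rw [hA', Category.comp_id] at hz
  exact ⟨A, inferInstance, inferInstance, hA, u, z, hu, hz⟩

/-- The generic point of an integral open subscheme lies in every dense open and specializes to
every point of it. -/
theorem exists_generic {W : X.Opens} [IsIntegral (W : Scheme.{u})] {x : X} (hx : x ∈ W) (U : X.Opens)
    (hU : Dense (U : Set X)) : W.ι (genericPoint (W : Scheme.{u})) ∈ U ∧
      W.ι (genericPoint (W : Scheme.{u})) ⤳ x := by
  refine ⟨?_, ((genericPoint_spec (W : Scheme.{u})).specializes (Set.mem_univ (⟨x, hx⟩ : W.toScheme))).map W.ι.continuous⟩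
  obtain ⟨y, hyW, hyU⟩ := hU.inter_open_nonempty W W.2 ⟨x, hx⟩
  exact ((genericPoint_spec (W : Scheme.{u})).specializes (Set.mem_univ (⟨y, hyW⟩ : W.toScheme))).mem_open
    (U.2.preimage W.ι.continuous) hyU

/-- Morphisms from a reduced scheme over a base agree if at every point they have the same image and
that image has trivial residue field extension over the base. -/
theorem ext_of_forall_residue {Z S : Scheme.{u}} [IsReduced Z] (q : Y ⟶ S) (a b : Z ⟶ Y)
    (h : a ≫ q = b ≫ q)
    (hp : ∀ z, a z = b z ∧ Function.Bijective (q.residueFieldMap (a z))) : a = b := by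
  let l : Z ⟶ pullback q q := pullback.lift a b h
  suffices key : ∃ d : Z ⟶ Y, d ≫ pullback.diagonal q = l by
    obtain ⟨d, hd⟩ := key
    have h1 := congrArg (· ≫ pullback.fst q q) hd
    have h2 := congrArg (· ≫ pullback.snd q q) hd
    simp only [l, Category.assoc, pullback.diagonal_fst, pullback.diagonal_snd, pullback.lift_fst,
      pullback.lift_snd, Category.comp_id] at h1 h2
    exact h1.symm.trans h2
  refine GrothLib.RedSub.exists_lift l (pullback.diagonal q) ?_
  rintro _ ⟨z, rfl⟩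
  have key : ∀ (y : Y) (φ ψ : Y.residueField y ⟶ Z.residueField z),
      Function.Bijective (q.residueFieldMap y) →
      Spec.map φ ≫ Y.fromSpecResidueField y ≫ q = Spec.map ψ ≫ Y.fromSpecResidueField y ≫ q → φ = ψ := by
    intro y φ ψ hy he
    rw [← Scheme.Hom.SpecMap_residueFieldMap_fromSpecResidueField, ← Category.assoc, ← Category.assoc,
      cancel_mono, ← Spec.map_comp, ← Spec.map_comp, Spec.map_inj] at he
    ext c
    obtain ⟨d, rfl⟩ := hy.2 c
    exact ConcreteCategory.congr_hom he d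
  have hab : Z.fromSpecResidueField z ≫ a = Z.fromSpecResidueField z ≫ b := by
    rw [← Scheme.Hom.SpecMap_residueFieldMap_fromSpecResidueField,
      ← Scheme.Hom.SpecMap_residueFieldMap_fromSpecResidueField,
      ← Scheme.residueFieldCongr_fromSpecResidueField (hp z).1, ← Category.assoc, ← Spec.map_comp]
    congr 2
    refine key _ _ _ (hp z).2 ?_
    rw [Spec.map_comp, Category.assoc, Scheme.residueFieldCongr_fromSpecResidueField_assoc,
      Scheme.Hom.SpecMap_residueFieldMap_fromSpecResidueField_assoc,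
      Scheme.Hom.SpecMap_residueFieldMap_fromSpecResidueField_assoc, h]
  have hl : Z.fromSpecResidueField z ≫ l = (Z.fromSpecResidueField z ≫ a) ≫ pullback.diagonal q := by
    apply pullback.hom_ext
    · simp only [l, Category.assoc, pullback.lift_fst, pullback.diagonal_fst, Category.comp_id]
    · simp only [l, Category.assoc, pullback.lift_snd, pullback.diagonal_snd, Category.comp_id, hab]
  refine ⟨a z, ?_⟩
  rw [← Scheme.fromSpecResidueField_apply z (closedPoint (Z.residueField z)),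
    ← Scheme.Hom.comp_apply _ a, ← Scheme.Hom.comp_apply _ l, hl, ← Scheme.Hom.comp_apply]

end GrothLib.Rat20Ext
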